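import Mathlib.LinearAlgebra.Matrix.ProjectiveSpecialLinearGroup
import Mathlib.LinearAlgebra.Matrix.CharP
import Mathlib.FieldTheory.Finite.Basic
import Mathlib.NumberTheory.LegendreSymbol.Basic

/-!
For `p ≡ 3 (mod 4)` an element of `PSL(2, p)` centralising an involution has order dividing
`2 (p + 1)`.
-/

namespace CfsgLib.PrimeDegreeIto

open Matrix

variable {p : ℕ} [Fact p.Prime]

theorem center_sl_two {x : Matrix.SpecialLinearGroup (Fin 2) (ZMod p)}
    (hx : x ∈ Subgroup.center (Matrix.SpecialLinearGroup (Fin 2) (ZMod p))) :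
    x = 1 ∨ x = -1 := by
  obtain ⟨r, hr, hrx⟩ := Matrix.SpecialLinearGroup.mem_center_iff.1 hx
  rw [Fintype.card_fin, sq_eq_one_iff] at hr
  rcases hr with rfl | rfl
  · left
    apply Subtype.ext
    rw [← hrx]; simp
  · right
    apply Subtype.ext
    rw [← hrx, Matrix.SpecialLinearGroup.coe_neg, Matrix.SpecialLinearGroup.coe_one]
    ext i j; fin_cases i <;> fin_cases j <;> simp

theorem pow_eq_one_of_commute_involution (h4 : p % 4 = 3)
    (w d : Matrix.ProjectiveSpecialLinearGroup (Fin 2) (ZMod p)) (hw : w ≠ 1) (hww : w * w = 1)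
    (hcomm : Commute w d) : d ^ (2 * (p + 1)) = 1 := by
  have hp : p.Prime := Fact.out
  have hns : ∀ x : ZMod p, x * x ≠ -1 := fun x hx => by
    have : IsSquare (-1 : ZMod p) := ⟨x, hx.symm⟩
    exact ZMod.exists_sq_eq_neg_one_iff.1 this h4
  obtain ⟨W, rfl⟩ := QuotientGroup.mk'_surjective _ w
  obtain ⟨D, rfl⟩ := QuotientGroup.mk'_surjective _ d
  -- the matrices
  have hW2 : W * W = -1 := by
    have : W * W ∈ Subgroup.center _ := by
      rw [← QuotientGroup.eq_one_iff]; exact hww
    refine (center_sl_two this).resolve_left fun h1 => hw ?_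
    refine (QuotientGroup.eq_one_iff W).2 ?_
    have hm : (W : Matrix (Fin 2) (Fin 2) (ZMod p)) * W = 1 := congrArg Subtype.val h1
    have hd := W.2
    rw [Matrix.det_fin_two] at hd
    have e00 := congrFun (congrFun hm 0) 0
    have e01 := congrFun (congrFun hm 0) 1
    have e10 := congrFun (congrFun hm 1) 0
    have e11 := congrFun (congrFun hm 1) 1
    simp [Matrix.mul_apply, Fin.sum_univ_two] at e00 e01 e10 e11
    set a := W 0 0
    set b := W 0 1
    set c := W 1 0
    set d' := W 1 1
    have ht : a + d' ≠ 0 := fun ht => by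
      have h2 : ((2 : ℕ) : ZMod p) = 0 := by
        push_cast; linear_combination (a * ht) - e00 - hd
      rw [ZMod.natCast_eq_zero_iff] at h2
      have := Nat.le_of_dvd two_pos h2
      omega
    have hb : b = 0 := (mul_eq_zero.1 (show (a + d') * b = 0 by linear_combination e01)).resolve_left ht
    have hc : c = 0 := (mul_eq_zero.1 (show (a + d') * c = 0 by linear_combination e10)).resolve_left ht
    have had : a = d' := by
      have h1' : (a + d') * (a - d') = 0 := by linear_combination e00 - e11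
      exact sub_eq_zero.1 ((mul_eq_zero.1 h1').resolve_left ht)
    refine Matrix.SpecialLinearGroup.mem_center_iff.2 ⟨a, ?_, ?_⟩
    · rw [Fintype.card_fin]; rw [hb, zero_mul, add_zero] at e00; rw [sq, e00]
    · ext i j
      fin_cases i <;> fin_cases j <;> simp [a, b, c, d'] at hb hc had ⊢ <;>
        simp [hb, hc, had]
  have hWm : (W : Matrix (Fin 2) (Fin 2) (ZMod p)) * W = -1 := congrArg Subtype.val hW2
  -- replace the element by its square, which commutes with the matrix
  set M := D * D with hM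
  have hMc : (W : Matrix (Fin 2) (Fin 2) (ZMod p)) * M = M * W := by
    have hz : W * D * W⁻¹ * D⁻¹ ∈ Subgroup.center _ := by
      rw [← QuotientGroup.eq_one_iff]
      show QuotientGroup.mk' _ (W * D * W⁻¹ * D⁻¹) = 1
      rw [map_mul, map_mul, map_mul, map_inv, map_inv, hcomm.eq, mul_inv_cancel_right, mul_inv_cancel]
    rcases center_sl_two hz with e | e
    · have e' : W * D = D * W := by
        rwa [mul_inv_eq_one, mul_inv_eq_iff_eq_mul] at e
      have : W * M = M * W := by rw [hM, ← mul_assoc, e', mul_assoc, e', ← mul_assoc]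
      exact congrArg Subtype.val this
    · have e' : (W : Matrix (Fin 2) (Fin 2) (ZMod p)) * D = -((D : Matrix (Fin 2) (Fin 2) (ZMod p)) * W) := by
        have h' : W * D = -1 * (D * W) := by
          rw [← e]; group
        have := congrArg Subtype.val h'
        simpa using this
      show (W : Matrix (Fin 2) (Fin 2) (ZMod p)) * ((D : Matrix (Fin 2) (Fin 2) (ZMod p)) * D) =
        (D : Matrix (Fin 2) (Fin 2) (ZMod p)) * D * W
      rw [← mul_assoc, e', neg_mul, mul_assoc, e', mul_neg, neg_neg, mul_assoc]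
  obtain ⟨x, y, z, hxyz, hW⟩ : ∃ x y z : ZMod p, x * x + y * z = -1 ∧
      (W : Matrix (Fin 2) (Fin 2) (ZMod p)) = !![x, y; z, -x] := by
    have hd := W.2
    rw [Matrix.det_fin_two] at hd
    have e00 := congrFun (congrFun hWm 0) 0
    have e01 := congrFun (congrFun hWm 0) 1
    have e10 := congrFun (congrFun hWm 1) 0
    simp [Matrix.mul_apply, Fin.sum_univ_two] at e00 e01 e10
    have ht : W 1 1 = -W 0 0 := by
      have h0 : W 0 0 * (W 0 0 + W 1 1) = 0 := by linear_combination e00 + hd
      rcases mul_eq_zero.1 h0 with r | r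
      · have hy : W 0 1 ≠ 0 := fun hy => by
          rw [r, hy] at e00; simp at e00
        have := (mul_eq_zero.1 (show W 0 1 * (W 0 0 + W 1 1) = 0 by linear_combination e01)).resolve_left hy
        linear_combination this
      · linear_combination r
    refine ⟨W 0 0, W 0 1, W 1 0, e00, ?_⟩
    ext i j
    fin_cases i <;> fin_cases j <;> simp [ht]
  have hy : y ≠ 0 := fun hy => hns x (by rw [hy, zero_mul, add_zero] at hxyz; exact hxyz)
  obtain ⟨a, b, hab⟩ : ∃ a b : ZMod p, (M : Matrix (Fin 2) (Fin 2) (ZMod p)) =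
      a • 1 + b • (W : Matrix (Fin 2) (Fin 2) (ZMod p)) := by
    rw [hW] at hMc ⊢
    have c00 := congrFun (congrFun hMc 0) 0
    have c01 := congrFun (congrFun hMc 0) 1
    simp [Matrix.mul_apply, Fin.sum_univ_two] at c00 c01
    refine ⟨M 0 0 - M 0 1 / y * x, M 0 1 / y, ?_⟩
    ext i j
    fin_cases i <;> fin_cases j <;> simp
    · field_simp
    · field_simp
      linear_combination c00
    · field_simp
      linear_combination c01
  have hpow : (M : Matrix (Fin 2) (Fin 2) (ZMod p)) ^ p = a • 1 - b • (W : Matrix (Fin 2) (Fin 2) (ZMod p)) := by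
    obtain ⟨k, hk⟩ : ∃ k, p = 2 * (2 * k + 1) + 1 := ⟨p / 4, by omega⟩
    have hWp : (W : Matrix (Fin 2) (Fin 2) (ZMod p)) ^ p = -(W : Matrix (Fin 2) (Fin 2) (ZMod p)) := by
      have e : (W : Matrix (Fin 2) (Fin 2) (ZMod p)) ^ (2 * (2 * k + 1) + 1) = -(W : Matrix (Fin 2) (Fin 2) (ZMod p)) := by
        rw [pow_succ, pow_mul, sq, hWm, Odd.neg_one_pow ⟨k, rfl⟩, neg_one_mul]
      rwa [← hk] at e
    rw [hab, add_pow_char_of_commute p (((Commute.one_left _).smul_left a).smul_right b), smul_pow,
      smul_pow, one_pow, ZMod.pow_card, ZMod.pow_card, hWp, smul_neg, sub_eq_add_neg]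
  have hdet : a * a + b * b = 1 := by
    have := (M : Matrix.SpecialLinearGroup (Fin 2) (ZMod p)).2
    rw [hab, hW, Matrix.det_fin_two] at this
    simp at this
    linear_combination this + (b * b) * hxyz
  have hM1 : M ^ (p + 1) = 1 := by
    apply Subtype.ext
    show ((M ^ (p + 1) : Matrix.SpecialLinearGroup (Fin 2) (ZMod p)) : Matrix (Fin 2) (Fin 2) (ZMod p)) = 1
    rw [Matrix.SpecialLinearGroup.coe_pow, pow_succ, hpow, hab, sub_mul, mul_add, mul_add,
      smul_mul_smul_comm, smul_mul_smul_comm, smul_mul_smul_comm, smul_mul_smul_comm, one_mul,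
      one_mul, mul_one, hWm, smul_neg, mul_comm b a]
    conv_rhs => rw [← one_smul (ZMod p) (1 : Matrix (Fin 2) (Fin 2) (ZMod p)), ← hdet, add_smul]
    abel
  rw [← map_pow, pow_mul, sq, ← hM, hM1, map_one]

end CfsgLib.PrimeDegreeIto
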